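import Groth.Prelude.Def_AnFib
import Groth.Agent.S9694
import Groth.Agent.S2768
import Groth.Agent.AlgSpDec.SmoothLocDim
import Groth.Agent.FibDim.BaseField
import Groth.Agent.FibAmple.Nhd
import Groth.Agent.AmpleFamGen.Cartier
import Groth.Agent.AmpleDev.Curve
import Groth.Agent.AmpleX.Rel
import Groth.Agent.AmpleX.EmbedOverApps
import Groth.Agent.AVHomLib.CurveDegPos
import Groth.Agent.GrpSchLib.SmoothReduced
import Groth.Agent.RelCurveDiv.Scheme

/-!
# Elementary fibrations are affine and surjective
-/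

set_option autoImplicit false
set_option linter.style.haveILetI false
set_option linter.unusedSectionVars false
set_option backward.isDefEq.respectTransparency false
set_option backward.isDefEq.respectTransparency.types false
set_option maxHeartbeats 1000000

universe u

open CategoryTheory CategoryTheory.Limits AlgebraicGeometry TopologicalSpace

namespace Groth.Agent.H9PB.ElemFib

open Groth.Agent

variable {X S : Scheme.{u}}

/-- A fibre with irreducible geometric fibre of dimension one is irreducible of dimension one. -/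
theorem fiber_of_geometric (f : X ⟶ S) [LocallyOfFiniteType f]
    (h : ∀ (Ω : Type u) [Field Ω] [IsAlgClosed Ω] (σ : Spec (CommRingCat.of Ω) ⟶ S),
      IrreducibleSpace ↥(pullback f σ) ∧ topologicalKrullDim ↥(pullback f σ) = 1) (s : S) :
    IrreducibleSpace ↥(f.fiber s) ∧ topologicalKrullDim ↥(f.fiber s) = 1 := by
  let σ₀ : Spec (CommRingCat.of (AlgebraicClosure (S.residueField s))) ⟶ Spec (S.residueField s) :=
    Spec.map (CommRingCat.ofHom (algebraMap (S.residueField s) (AlgebraicClosure (S.residueField s))))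
  obtain ⟨hirr, hdim⟩ := h (AlgebraicClosure (S.residueField s)) (σ₀ ≫ S.fromSpecResidueField s)
  let p : pullback f (σ₀ ≫ S.fromSpecResidueField s) ⟶ f.fiber s :=
    pullback.lift (pullback.fst f _) (pullback.snd f _ ≫ σ₀) (by rw [Category.assoc]; exact pullback.condition)
  have hP : IsPullback p (pullback.snd f _) (f.fiberToSpecResidueField s) σ₀ :=
    IsPullback.of_right (by
      have h1 : p ≫ pullback.fst f (S.fromSpecResidueField s) = pullback.fst f _ := pullback.lift_fst _ _ _
      rw [h1]; exact IsPullback.of_hasPullback _ _) (pullback.lift_snd _ _ _)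
      (IsPullback.of_hasPullback f (S.fromSpecResidueField s))
  haveI : Subsingleton ↥(Spec (S.residueField s)) := inferInstanceAs (Subsingleton (PrimeSpectrum (S.residueField s)))
  haveI : Nonempty ↥(Spec (CommRingCat.of (AlgebraicClosure (S.residueField s)))) :=
    inferInstanceAs (Nonempty (PrimeSpectrum (AlgebraicClosure (S.residueField s))))
  haveI : Subsingleton ↥(Spec (CommRingCat.of (AlgebraicClosure (S.residueField s)))) :=
    inferInstanceAs (Subsingleton (PrimeSpectrum (AlgebraicClosure (S.residueField s))))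
  haveI hσs : Surjective σ₀ := ⟨fun y => ⟨Classical.arbitrary _, Subsingleton.elim _ _⟩⟩
  haveI : Surjective p := MorphismProperty.of_isPullback hP.flip hσs
  refine ⟨?_, (FibDim.topologicalKrullDim_baseChange hP).symm.trans hdim⟩
  haveI := hirr
  have h2 := (IrreducibleSpace.isIrreducible_univ (X := ↥(pullback f (σ₀ ≫ S.fromSpecResidueField s)))).image
    p p.continuous.continuousOn
  rw [Set.image_univ, p.surjective.range_eq] at h2
  exact (irreducibleSpace_def _).2 h2

/-- With irreducible fibres of dimension one, the fibre dimension at every point is one. -/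
theorem fibreDimAt_eq_one (f : X ⟶ S) [LocallyOfFiniteType f]
    (h : ∀ s : S, IrreducibleSpace ↥(f.fiber s) ∧ topologicalKrullDim ↥(f.fiber s) = 1) (x : X) :
    FlatMor.fibreDimAt f x = 1 := by
  obtain ⟨hirr, hdim⟩ := h (f x)
  haveI := hirr
  let η : X := f.fiberι (f x) (genericPoint (f.fiber (f x)))
  have hη : ∀ z : X, f z = f x → η ⤳ z := fun z hz => by
    obtain ⟨w, rfl⟩ : z ∈ Set.range (f.fiberι (f x)) := by rw [Scheme.Hom.range_fiberι]; exact hz
    exact (genericPoint_specializes w).map (f.fiberι (f x)).continuous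
  have hfη : f η = f x := by
    have : η ∈ Set.range (f.fiberι (f x)) := ⟨_, rfl⟩
    rw [Scheme.Hom.range_fiberι] at this
    exact this
  obtain ⟨z, hzx, hfz, he, -⟩ := FibDim.exists_fibreDimAt_eq f x
  rw [FibDim.topologicalKrullDim_fiber f] at hdim
  refine le_antisymm ?_ ?_
  · rw [he, ← hdim]
    exact le_iSup (fun w : ↥(f ⁻¹' {f x}) => ((FibDim.rd f w.1 : ℕ∞) : WithBot ℕ∞)) ⟨z, hfz⟩
  · rw [← hdim]
    refine iSup_le fun w => le_trans ?_ (FibDim.rd_le_fibreDimAt f (hη x rfl) hfη)
    exact_mod_cast FibDim.rd_le_of_specializes f (hη w.1 w.2) (hfη.trans (Eq.symm w.2))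

theorem smoothOfRelativeDimension_one (f : X ⟶ S) [Smooth f]
    (h : ∀ x : X, FlatMor.fibreDimAt f x = 1) : SmoothOfRelativeDimension 1 f := by
  have hc : ∀ x : X, ∃ U : X.Opens, x ∈ U ∧ SmoothOfRelativeDimension 1 (U.ι ≫ f) := by
    intro x
    obtain ⟨V, j, v, n, hj, rfl, hn⟩ := AlgSpDec.SmoothLocDim.exists_smoothOfRelativeDimension_nhd f x
    have h1 := Groth.Agent.S2768.result n (j ≫ f) v
    rw [AlgSpDec.fibreDimAt_etale_comp j f v, h] at h1
    obtain rfl : n = 1 := by exact_mod_cast h1.symm
    haveI := hn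
    refine ⟨j.opensRange, ⟨v, rfl⟩, ?_⟩
    have he : j.opensRange.ι ≫ f = j.isoOpensRange.inv ≫ (j ≫ f) := by
      rw [← Category.assoc, Scheme.Hom.isoOpensRange_inv_comp]
    rw [he]
    exact smoothOfRelativeDimension_comp (n := 0) (m := 1) _ _
  choose U hxU hU using hc
  exact IsZariskiLocalAtSource.of_iSup_eq_top (P := @SmoothOfRelativeDimension 1) U
    (eq_top_iff.2 fun x _ => Opens.mem_iSup.2 ⟨x, hxU x⟩) hU

/-- An elementary fibration over a locally Noetherian base is affine and surjective. -/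
theorem isAffineHom_and_surjective [IsLocallyNoetherian S] (f : X ⟶ S) (hf : An.IsElementaryFibration f) :
    IsAffineHom f ∧ Surjective f := by
  obtain ⟨Xb, Y, j, fb, i, hfac, hj, hi, hrange, hdense, hsm, ⟨N, c, hc, hcfac⟩, hgeo, hfin, het, hsur⟩ := hf
  subst hfac
  have hne : ∀ s : S, ∃ x : X, fb (j x) = s := fun s => by
    obtain ⟨y, hy⟩ := hsur s
    have h1 := hdense s (show i y ∈ fb ⁻¹' {s} from hy)
    rcases Set.eq_empty_or_nonempty (Set.range j ∩ fb ⁻¹' {s}) with he | ⟨_, ⟨x, rfl⟩, hx⟩
    · rw [he, closure_empty] at h1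
      exact h1.elim
    · exact ⟨x, hx⟩
  refine ⟨?_, ⟨hne⟩⟩
  haveI : IsProper fb := by rw [← hcfac]; infer_instance
  have hfib : ∀ s, IrreducibleSpace ↥(fb.fiber s) ∧ topologicalKrullDim ↥(fb.fiber s) = 1 :=
    fiber_of_geometric fb hgeo
  haveI := smoothOfRelativeDimension_one fb (fibreDimAt_eq_one fb hfib)
  haveI := hfin; haveI := het
  have hflf : Mor2.IsFinLocFree (i.ker.subschemeι ≫ fb) := by
    haveI : IsIso i.toImage := inferInstance
    have he : i.ker.subschemeι ≫ fb = inv i.toImage ≫ (i ≫ fb) := by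
      rw [IsIso.eq_inv_comp, ← Category.assoc]
      exact congrArg (· ≫ fb) i.toImage_imageι
    rw [he]
    exact ⟨inferInstance, inferInstance, inferInstance⟩
  obtain ⟨L, t, hL, hlocus⟩ :=
    AmpleFamGen.exists_section_locus_eq (RelCurveDiv.isEffCartier_of_finLocFree fb i.ker hflf).1
  let s : Coh.structureModule Xb ⟶ L := InvX.ofSect t
  have hgen : (CohB1.genLocus L s : Set Xb) = Set.range j := by
    rw [AmpleX.genLocus_eq_locus, InvX.one_ofSect, hlocus, hrange]
    show (i.ker.support : Set Xb)ᶜ = _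
    rw [Scheme.Hom.support_ker, i.isClosedEmbedding.isClosed_range.closure_eq]
  have hopen : CohB1.genLocus L s = j.opensRange := Opens.ext hgen
  have hamp : ∀ y : S, CohB1.IsAmple ((Scheme.Modules.pullback (fb.fiberι y)).obj L) := by
    intro y
    letI : (fb.fiber y).Over (Spec (CommRingCat.of (S.residueField y))) := ⟨fb.fiberToSpecResidueField y⟩
    haveI : IsProper (fb.fiber y ↘ Spec (CommRingCat.of (S.residueField y))) :=
      show IsProper (fb.fiberToSpecResidueField y) from MorphismProperty.pullback_snd (P := @IsProper) _ _ inferInstance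
    haveI : Smooth (fb.fiberToSpecResidueField y) :=
      MorphismProperty.pullback_snd (P := @Smooth) _ _ inferInstance
    haveI : AlgebraicGeometry.IsReduced (fb.fiber y) :=
      GrpSchLib.isReduced_of_smooth_field (K := S.residueField y) (fb.fiberToSpecResidueField y)
    obtain ⟨hirr, hdim⟩ := hfib y
    haveI := hirr
    haveI : IsIntegral (fb.fiber y) := isIntegral_of_irreducibleSpace_of_isReduced _
    have hM := PicClLib.isInvertible_pullback (fb.fiberι y) hL
    refine AmpleDev.isAmple_of_deg_pos (S.residueField y) hdim hM ?_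
    obtain ⟨e⟩ := PicClLib.nonempty_pullback_structureModule (fb.fiberι y)
    have hg := InvX.genLocus_pullback (fb.fiberι y) hL s e.symm
    set φ := e.symm.hom ≫ (Scheme.Modules.pullback (fb.fiberι y)).map s
    rw [hopen] at hg
    have hmem : ∀ w, w ∈ CohB1.genLocus _ φ ↔ fb.fiberι y w ∈ Set.range j := fun w => by rw [hg]; rfl
    have hφ : φ ≠ 0 := fun h => by
      obtain ⟨x, hx⟩ := hne y
      obtain ⟨w, hw⟩ : j x ∈ Set.range (fb.fiberι y) := by rw [Scheme.Hom.range_fiberι]; exact hx
      have h1 := (hmem w).2 ⟨x, hw.symm⟩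
      rw [h, AVHomLib.genLocus_eq_bot_of_eq_zero hM] at h1
      exact h1
    have hiso : ¬ IsIso φ := fun h => by
      obtain ⟨v, hv⟩ := hsur y
      obtain ⟨w, hw⟩ : i v ∈ Set.range (fb.fiberι y) := by rw [Scheme.Hom.range_fiberι]; exact hv
      have htop : CohB1.genLocus _ φ = ⊤ := top_le_iff.1 (le_sSup
        (show IsIso ((Scheme.Modules.restrictFunctor (⊤ : (fb.fiber y).Opens).ι).map φ) from inferInstance))
      have h1 := (hmem w).1 (htop.symm ▸ Opens.mem_top w)
      rw [hw, hrange] at h1
      exact h1 ⟨v, rfl⟩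
    obtain ⟨h1, h2⟩ := CurveDeg.deg_le_and_isIso (S.residueField y) hdim.le
      CurveDeg.isInvertible_structureModule hM φ hφ
    rw [CurveDeg.deg_structureModule] at h1 h2
    exact lt_of_le_of_ne h1 fun h => hiso (h2 h)
  have hrel : RelAmple.IsRelAmple fb L := AmpleX.isRelAmple_of_ampleOn fun x => by
    obtain ⟨V, hxV, hV⟩ := FibAmple.exists_nhd_ample fb hL (fb x) (hamp (fb x))
    obtain ⟨W, hW, hxW, hWV⟩ := exists_isAffineOpen_mem_and_subset hxV
    exact ⟨W, _, (fb ⁻¹ᵁ W).ι, inferInstance, hxW, by rw [Scheme.Opens.opensRange_ι], hV W hWV hW⟩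
  haveI := Groth.Agent.S9694.result fb L hrel s
  haveI := hj
  rw [show j ≫ fb = (j.isoOpensRange.hom ≫ (Xb.isoOfEq hopen).inv) ≫ ((CohB1.genLocus L s).ι ≫ fb) by
    simp only [Category.assoc, Scheme.isoOfEq_inv_ι_assoc, Scheme.Hom.isoOpensRange_hom_ι_assoc]]
  infer_instance

end Groth.Agent.H9PB.ElemFib
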